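import Cfsg.Agent.Lib.Blocks.ExtensionPrincipal
import Cfsg.Agent.Lib.CharDeep.Galois.CharAut
import Cfsg.Agent.Lib.DegreeTools.FeitFour.Tools

/-!
# Extensions of invariant characters of the principal block with `p'`-determinant

For an invariant member of the principal block of a normal subgroup `N`, of degree prime to `p`
and with determinant trivial on `p`-elements, an extension exists as soon as `N C(Q)` has `p`-power
index, `Q` a Sylow `p`-subgroup of `N`.
-/

set_option autoImplicit false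

namespace CfsgLib.Blocks.PRatExtend

open Cfsg CfsgLib CfsgLib.Blocks CfsgLib.BrauerPairs CfsgLib.CharDeep
open scoped Classical ComplexConjugate

variable {G : Type*} [Group G] {p : ℕ} [hp : Fact p.Prime]

/-- An exponent which is one modulo the `p'`-part and zero modulo the `p`-part. -/
theorem exists_exponent (e a : ℕ) (he : ¬ p ∣ e) :
    ∃ c : ℕ, c ≡ 1 [MOD e] ∧ c ≡ 0 [MOD p ^ a] := by
  obtain ⟨c, hc⟩ := Nat.chineseRemainder
    ((Nat.Coprime.pow_left a ((Nat.Prime.coprime_iff_not_dvd hp.out).2 he)).symm) 1 0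
  exact ⟨c, hc⟩

theorem pow_of_modEq_one {M : Type*} [Group M] {x : M} {e c : ℕ} (hx : x ^ e = 1)
    (hc : c ≡ 1 [MOD e]) : x ^ c = x := by
  conv_rhs => rw [← pow_one x]
  exact pow_eq_pow_iff_modEq.2 (hc.of_dvd (orderOf_dvd_of_pow_eq_one hx))

/-- A homomorphism of order prime to `p` on a normal subgroup of `p`-power index extends with the
same exponent. -/
theorem exists_hom_extension [Finite G] {N : Subgroup G} [hN : N.Normal] {a : ℕ}
    (hidx : N.index = p ^ a) (f : N →* ℂˣ)
    (hinv : ∀ (g : G) (n : N), f ⟨g * n * g⁻¹, hN.conj_mem n n.2 g⟩ = f n)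
    {e : ℕ} (he : ¬ p ∣ e) (hf : ∀ n, f n ^ e = 1) :
    ∃ F : G →* ℂˣ, (∀ n : N, F n = f n) ∧ ∀ g, F g ^ e = 1 := by
  obtain ⟨F, hF⟩ := CentralExt.exists_extension_of_pow_eq_one f hinv e hf fun q hq hqe =>
    ⟨N, le_rfl, fun h => he (by
      rw [hidx] at h
      rw [(Nat.prime_dvd_prime_iff_eq hq hp.out).1 (hq.dvd_of_dvd_pow h)] at hqe
      exact hqe), f, fun n hn => rfl⟩
  obtain ⟨c, hc1, hc0⟩ := exists_exponent (p := p) e a he
  refine ⟨(powMonoidHom c).comp F, fun n => ?_, fun g => ?_⟩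
  · show F n ^ c = _
    rw [hF]
    exact pow_of_modEq_one (hf n) hc1
  · obtain ⟨b, hb⟩ := Nat.modEq_zero_iff_dvd.1 hc0
    show (F g ^ c) ^ e = 1
    have h1 : F g ^ p ^ a = f ⟨g ^ p ^ a, hidx ▸ N.pow_index_mem g⟩ := by rw [← map_pow, ← hF]
    rw [hb, pow_mul, h1, ← pow_mul, mul_comm b e, pow_mul, hf, one_pow]

variable [Fintype G]

/-- A subgroup between `N` and `N ⊔ C(Q)` over which `N` has index prime to `p` is in the
Alperin–Dade situation. -/
theorem good_sub {N : Subgroup G} [N.Normal] {Q : Subgroup G} (hQN : Q ≤ N)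
    (hQi : ¬ p ∣ Q.relIndex N) {H : Subgroup G} (hNH : N ≤ H)
    (hHL : H ≤ N ⊔ Subgroup.centralizer (Q : Set G)) (hHi : ¬ p ∣ N.relIndex H) :
    AlperinDade.Good p (N.subgroupOf H) := by
  refine ⟨Q.subgroupOf H, Subgroup.comap_mono hQN, ?_, fun g => ?_⟩
  · show ¬ p ∣ Q.relIndex H
    rw [← Subgroup.relIndex_mul_relIndex Q N H hQN hNH]
    exact fun h => (hp.out.dvd_mul.1 h).elim hQi hHi
  · obtain ⟨n, hn, c, hc, hnc⟩ := Subgroup.mem_sup_of_normal_left.1 (hHL g.2)
    have hcH : c ∈ H := by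
      rw [show c = n⁻¹ * (g : G) by rw [← hnc]; group]
      exact H.mul_mem (H.inv_mem (hNH hn)) g.2
    refine ⟨⟨c, hcH⟩, ?_, Subgroup.mem_centralizer_iff.2 fun u hu => Subtype.ext ?_⟩
    · show (g : G)⁻¹ * c ∈ N
      rw [← hnc]
      simpa [mul_assoc] using (inferInstance : N.Normal).conj_mem _ (N.inv_mem hn) c⁻¹
    · exact Subgroup.mem_centralizer_iff.1 hc u hu

/-- An extension with determinant of order prime to `p`. -/
theorem exists_extension_det {M : Ideal AlgInt} (hM : IsPModular p M) {N : Subgroup G} [N.Normal]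
    {Q : Subgroup G} (hQN : Q ≤ N) (hQi : ¬ p ∣ Q.relIndex N)
    (hidx : ∃ a, (N ⊔ Subgroup.centralizer (Q : Set G)).index = p ^ a)
    {θ : IrrCharacter N} (hθ : θ ∈ principalBlock M N) {d : ℕ}
    (ρ : Representation ℂ N (Fin d → ℂ)) [ρ.IsIrreducible] (hρ : ρ.character = (θ : N → ℂ))
    (hinv : ProjExt.Invariant ρ) (hd : ¬ p ∣ d)
    {e : ℕ} (he : ¬ p ∣ e) (hreg : ∀ g : G, ¬ p ∣ orderOf g → g ^ e = 1)
    (hdet : ∀ n : N, DetExt.detHom ρ n ^ e = 1) :
    ∃ τ : Representation ℂ G (Fin d → ℂ), IsIrrCharacter G τ.character ∧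
      (∀ n : N, τ n = ρ n) ∧ ∀ g, DetExt.detHom τ g ^ e = 1 := by
  have hfin : Module.finrank ℂ (Fin d → ℂ) = d := Module.finrank_fin_fun ℂ
  -- an extension
  obtain ⟨σ, hσ⟩ := ProjExt.exists_extension_of_sylow ρ hinv fun q hq => by
    haveI := Fact.mk hq
    by_cases hqp : q = p
    · subst hqp
      obtain ⟨P⟩ : Nonempty (Sylow q G) := inferInstance
      refine ⟨N ⊔ (P : Subgroup G), le_sup_left, ?_⟩
      obtain ⟨a, ha⟩ : ∃ a, N.relIndex (N ⊔ (P : Subgroup G)) = q ^ a := by
        obtain ⟨b, hb⟩ := IsPGroup.iff_card.1 P.2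
        have h := Subgroup.relIndex_dvd_card N (P : Subgroup G)
        rw [hb] at h
        obtain ⟨a, -, ha⟩ := (Nat.dvd_prime_pow hq).1 h
        exact ⟨a, by rw [sup_comm, Subgroup.relIndex_sup_right, ha]⟩
      set H := N ⊔ (P : Subgroup G)
      set N' := N.subgroupOf H
      let i : N' ≃* N := Subgroup.subgroupOfEquivOfLe le_sup_left
      let ρ' : Representation ℂ N' (Fin d → ℂ) := ρ.comp i.toMonoidHom
      haveI : ρ'.IsIrreducible := by
        have := IrrTools.apply_ne_zero_of_isIrreducible ρ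
        exact IrrTools.isIrreducible_of_forall ρ' fun U hU =>
          IrrTools.eq_bot_or_top_of_invariant ρ U fun n u hu => by
            have := hU (i.symm n) u hu
            simpa [ρ'] using this
      have hinv' : ProjExt.Invariant ρ' := fun g n => by
        refine Eq.trans ?_ (hinv g (i n))
        show ρ.character (i (MulAut.conjNormal g n)) = _
        congr 1
      have hcast : ∀ (g : H) (n : N'), DetExt.detHom ρ'
          ⟨g * n * g⁻¹, (inferInstance : N'.Normal).conj_mem n n.2 g⟩ = DetExt.detHom ρ' n := by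
        intro g n
        obtain ⟨γ, hγ⟩ := ProjExt.exists_lift ρ' g (hinv' g)
        have h1 := congrArg LinearMap.det (ProjExt.lin_mul ρ' γ n)
        rw [map_mul, map_mul, ProjExt.det_lin, one_mul, mul_one] at h1
        apply Units.ext
        rw [DetExt.coe_detHom, DetExt.coe_detHom, h1]
        congr 2
        exact Subtype.ext (by rw [MulAut.conjNormal_apply, hγ])
      obtain ⟨μ, hμ, -⟩ := exists_hom_extension (N := N') (a := a) ha (DetExt.detHom ρ') hcast he
        fun n => hdet (i n)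
      obtain ⟨π, hπ, -⟩ := DetExt.exists_extension_det ρ' hinv' (by
        rw [hfin, show N'.index = q ^ a from ha]
        exact Nat.Coprime.pow_left a ((Nat.Prime.coprime_iff_not_dvd hq).2 hd)) μ hμ
      refine ⟨d, π, fun h => P.not_dvd_index (h.trans (Subgroup.index_dvd_of_le le_sup_right)),
        fun n => ?_⟩
      exact congrArg (LinearMap.trace ℂ _) (hπ (i.symm n))
    · set L := N ⊔ Subgroup.centralizer (Q : Set G)
      obtain ⟨S⟩ : Nonempty (Sylow q L) := inferInstance
      set S' : Subgroup G := (S : Subgroup L).map L.subtype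
      set H := N ⊔ S'
      have hNH : N ≤ H := le_sup_left
      have hHL : H ≤ L := sup_le le_sup_left (Subgroup.map_subtype_le _)
      have hHi : ¬ p ∣ N.relIndex H := fun h => by
        rw [show H = S' ⊔ N from sup_comm _ _, Subgroup.relIndex_sup_right] at h
        have h1 := h.trans (Subgroup.relIndex_dvd_card N S')
        obtain ⟨b, hb⟩ := IsPGroup.iff_card.1 S.2
        rw [Subgroup.card_map_of_injective L.subtype_injective, hb] at h1
        exact hqp ((Nat.prime_dvd_prime_iff_eq hp.out hq).1 (hp.out.dvd_of_dvd_pow h1)).symm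
      obtain ⟨-, hex⟩ := AlperinDade.restriction_bijection hM (good_sub hQN hQi hNH hHL hHi)
      set θ' := irrEquiv (Subgroup.subgroupOfEquivOfLe hNH) θ with hθ'
      obtain ⟨f, ⟨-, hf⟩, -⟩ := hex θ' (AlperinDade.mem_principal_transport _ hθ)
      obtain ⟨m, π, -, hπ⟩ := f.2
      refine ⟨H, hNH, m, π, fun h => ?_, fun n => ?_⟩
      · obtain ⟨a, ha⟩ := hidx
        have h1 : H.index ∣ S'.index := Subgroup.index_dvd_of_le le_sup_right
        have h2 : S'.index = (S : Subgroup L).index * L.index := by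
          rw [Subgroup.index_map_subtype]
        rw [h2, ha] at h1
        rcases hq.dvd_mul.1 (h.trans h1) with h3 | h3
        · exact S.not_dvd_index h3
        · exact hqp ((Nat.prime_dvd_prime_iff_eq hq hp.out).1 (hq.dvd_of_dvd_pow h3))
      · rw [hπ, hρ]
        refine (hf ⟨⟨n, hNH n.2⟩, n.2⟩).trans ?_
        rw [hθ', irrEquiv_apply]
        rfl
  haveI := DetExt.isIrreducible_of_extends ρ σ hσ
  -- kill the `p`-part of the determinant
  set t := DetExt.detHom σ
  set A := (Nat.card G).factorization p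
  set n' := Nat.card G / p ^ A
  have hn' : ¬ p ∣ n' := Nat.not_dvd_ordCompl hp.out Nat.card_pos.ne'
  have hG : p ^ A * n' = Nat.card G := Nat.ordProj_mul_ordCompl_eq_self _ _
  obtain ⟨s', hs'⟩ : ∃ s' : ℕ, 1 + d * e * s' ≡ 0 [MOD p ^ A] := by
    have hco : (d * e).Coprime (p ^ A) := Nat.Coprime.pow_right A
      (((Nat.Prime.coprime_iff_not_dvd hp.out).2
        (fun h => (hp.out.dvd_mul.1 h).elim hd he)).symm)
    obtain ⟨u, -, hu⟩ := Nat.exists_mul_mod_eq_of_coprime 1 hco (pow_ne_zero A hp.out.ne_zero)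
    refine ⟨u * (p ^ A - 1), ?_⟩
    have h1 : d * e * u ≡ 1 [MOD p ^ A] := hu
    rw [← mul_assoc]
    refine ((h1.mul_right _).add_left 1).trans ?_
    rw [one_mul, Nat.add_sub_cancel' (Nat.one_le_pow _ _ hp.out.pos)]
    exact Nat.modEq_zero_iff_dvd.2 dvd_rfl
  let β : G →* ℂˣ := (powMonoidHom (e * s')).comp t
  have hβN : ∀ n : N, β n = 1 := fun n => by
    show t n ^ (e * s') = 1
    rw [show t n = DetExt.detHom ρ n from Units.ext (by rw [DetExt.coe_detHom, DetExt.coe_detHom, hσ]),
      pow_mul, hdet, one_pow]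
  refine ⟨DetExt.twistHom σ β, ?_, fun n => ?_, fun g => ?_⟩
  · haveI := DetExt.isIrreducible_of_extends ρ (DetExt.twistHom σ β) fun n => by
      show (β n : ℂ) • σ n = ρ n
      rw [hβN, Units.val_one, one_smul, hσ]
    exact IrrTools.isIrrCharacter_character _
  · show (β n : ℂ) • σ n = ρ n
    rw [hβN, Units.val_one, one_smul, hσ]
  · have h1 : DetExt.detHom (DetExt.twistHom σ β) g = β g ^ d * t g := Units.ext (by
      show LinearMap.det ((β g : ℂ) • σ g) = _
      rw [LinearMap.det_smul, Units.val_mul, Units.val_pow_eq_pow_val, hfin]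
      rfl)
    rw [h1]
    show ((t g ^ (e * s')) ^ d * t g) ^ e = 1
    obtain ⟨b, hb⟩ := Nat.modEq_zero_iff_dvd.1 hs'
    rw [← pow_mul, ← pow_succ, show e * s' * d + 1 = p ^ A * b by rw [← hb]; ring, ← pow_mul,
      mul_assoc, pow_mul, ← map_pow]
    have h2 : ¬ p ∣ orderOf (g ^ p ^ A) := fun h => hn' (h.trans (orderOf_dvd_of_pow_eq_one (by
      rw [← pow_mul, hG, pow_card_eq_one'])))
    rw [← map_pow, mul_comm b e, pow_mul, hreg _ h2, one_pow, map_one]

end CfsgLib.Blocks.PRatExtend
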