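import Cfsg.Agent.Lib.CharDeep.Galois.ComplexAut
import Mathlib.FieldTheory.Galois.Basic
import Mathlib.NumberTheory.Cyclotomic.Basic

/-!
# Elements of a cyclotomic field fixed by the automorphisms fixing a smaller one
-/

set_option autoImplicit false

namespace CfsgLib.Blocks.PRatExtend

open IntermediateField Cardinal

/-- An automorphism fixing `z` fixes the field generated by `z`. -/
theorem apply_eq_of_mem_adjoin (σ : ℂ ≃+* ℂ) {z : ℂ} (hz : σ z = z) {x : ℂ}
    (hx : x ∈ IntermediateField.adjoin ℚ ({z} : Set ℂ)) : σ x = x := by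
  induction hx using IntermediateField.adjoin_induction with
  | mem y hy => rw [Set.mem_singleton_iff.1 hy, hz]
  | algebraMap q => simp
  | add a b _ _ ha hb => rw [map_add, ha, hb]
  | inv a _ ha => rw [map_inv₀, ha]
  | mul a b _ _ ha hb => rw [map_mul, ha, hb]

/-- The primitive root `exp (2πi/n)`. -/
noncomputable def zeta (n : ℕ) : ℂ := Complex.exp (2 * Real.pi * Complex.I / n)

/-- Fixed elements of a larger cyclotomic field lie in the smaller one. -/
theorem mem_adjoin_of_fixed {n N : ℕ} (hn : n ≠ 0) (hN : N ≠ 0) (hdvd : n ∣ N) {x : ℂ}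
    (hx : x ∈ IntermediateField.adjoin ℚ ({zeta N} : Set ℂ))
    (hfix : ∀ σ : ℂ ≃+* ℂ, σ (zeta n) = zeta n → σ x = x) :
    x ∈ IntermediateField.adjoin ℚ ({zeta n} : Set ℂ) := by
  have : NeZero N := ⟨hN⟩
  set L : IntermediateField ℚ ℂ := IntermediateField.adjoin ℚ ({zeta N} : Set ℂ) with hL
  have hωN : IsPrimitiveRoot (zeta N) N := Complex.isPrimitiveRoot_exp N hN
  have hωn : zeta n ∈ L := by
    obtain ⟨i, -, hi⟩ := hωN.eq_pow_of_pow_eq_one (ξ := zeta n) (by
      obtain ⟨c, rfl⟩ := hdvd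
      rw [pow_mul, zeta, (Complex.isPrimitiveRoot_exp n hn).pow_eq_one, one_pow])
    rw [← hi]
    exact pow_mem (IntermediateField.mem_adjoin_simple_self ℚ _) i
  have hcyc : IsCyclotomicExtension {N} ℚ L := by
    change IsCyclotomicExtension {N} ℚ L.toSubalgebra
    rw [hL, IntermediateField.adjoin_simple_toSubalgebra_of_isAlgebraic
      ((hωN.isIntegral (Nat.pos_of_ne_zero hN)).tower_top.isAlgebraic)]
    exact hωN.adjoin_isCyclotomicExtension ℚ
  have : IsGalois ℚ L := IsCyclotomicExtension.isGalois {N} ℚ L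
  have : FiniteDimensional ℚ L := IsCyclotomicExtension.finiteDimensional {N} ℚ L
  set K : IntermediateField ℚ L :=
    IntermediateField.restrict (F := IntermediateField.adjoin ℚ ({zeta n} : Set ℂ)) (E := L)
      (IntermediateField.adjoin_le_iff.2 (Set.singleton_subset_iff.2 hωn))
  suffices h : (⟨x, hx⟩ : L) ∈ K from (IntermediateField.mem_restrict _ _).1 h
  rw [← IsGalois.fixedField_fixingSubgroup K]
  rintro ⟨τ, hτ⟩
  have hF : #L ≤ ℵ₀ := (Algebra.IsAlgebraic.cardinalMk_le_max ℚ L).trans (by simp)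
  obtain ⟨σ, hσ⟩ := CharDeep.Galois.exists_extend hF L.val.toRingHom
    (L.val.toRingHom.comp (τ : L →+* L))
  have h1 : τ ⟨zeta n, hωn⟩ = ⟨zeta n, hωn⟩ :=
    hτ ⟨⟨zeta n, hωn⟩, (IntermediateField.mem_restrict _ _).2
      (IntermediateField.mem_adjoin_simple_self ℚ _)⟩
  refine Subtype.ext ?_
  refine ((hσ ⟨x, hx⟩).symm.trans (hfix σ ?_) :)
  refine (hσ ⟨zeta n, hωn⟩).trans ?_
  show ((τ ⟨zeta n, hωn⟩ : L) : ℂ) = zeta n
  rw [h1]

end CfsgLib.Blocks.PRatExtend
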