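import Cfsg.Agent.Lib.Blocks.PRatExtend.Field
import Cfsg.Agent.Lib.Blocks.PRatExtend.Extend
import Cfsg.Agent.Lib.Char.CliffordAbelian

/-!
# The principal-block extension is `p`-rational

An extension with determinant of order prime to `p`, twisted into the principal block of every
group between `N` and `N C(Q)`, is unique, so it is fixed by the automorphisms of `ℂ` fixing the
roots of unity of order prime to `p`.
-/

set_option autoImplicit false
set_option maxHeartbeats 1000000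

namespace CfsgLib.Blocks.PRatExtend

open Cfsg CfsgLib CfsgLib.Blocks CfsgLib.BrauerPairs CfsgLib.CharDeep
open scoped Classical ComplexConjugate

variable {G : Type*} [Group G] [Fintype G] {p : ℕ} [hp : Fact p.Prime] {M : Ideal AlgInt}

/-- The regular sums of `f ν` over the groups between `N` and `L` do not vanish. -/
def RegNZ (p : ℕ) (N : Subgroup G) (L : Subgroup G) (f : G → ℂ) (ν : L → ℂ) : Prop :=
  ∀ (J : Subgroup G) (_hNJ : N ≤ J) (hJL : J ≤ L),
    ∑ y : J with IsPRegular p y, f y * ν ⟨y, hJL y.2⟩ ≠ 0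

omit [Fintype G] hp in
theorem mem_of_not_dvd [Finite G] {L : Subgroup G} [L.Normal] {a : ℕ} (hidx : L.index = p ^ a)
    (hp' : p.Prime) {g : G} (hg : ¬ p ∣ orderOf g) : g ∈ L := by
  rw [← QuotientGroup.eq_one_iff, ← orderOf_eq_one_iff]
  have h1 : orderOf (g : G ⧸ L) ∣ orderOf g := orderOf_map_dvd (QuotientGroup.mk' L) g
  have h2 : orderOf (g : G ⧸ L) ∣ p ^ a := hidx ▸ orderOf_dvd_natCard _
  exact Nat.eq_one_of_dvd_coprimes
    ((Nat.Coprime.pow_left a ((Nat.Prime.coprime_iff_not_dvd hp').2 hg))) h2 h1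

/-- Two linear twists with non-vanishing regular sums agree on the `p`-regular elements. -/
theorem eq_on_regular (hM : IsPModular p M) {N : Subgroup G} [N.Normal] {Q : Subgroup G}
    (hQN : Q ≤ N) (hQi : ¬ p ∣ Q.relIndex N) {θ : IrrCharacter N} (hθ : θ ∈ principalBlock M N)
    {f : IrrCharacter G} (hres : ∀ n : N, (f : G → ℂ) n = (θ : N → ℂ) n)
    {L : Subgroup G} (hNL : N ≤ L) (hLC : L ≤ N ⊔ Subgroup.centralizer (Q : Set G))
    (a b : L →* ℂˣ)
    (haN : ∀ x : L, (x : G) ∈ N → a x = 1) (hbN : ∀ x : L, (x : G) ∈ N → b x = 1)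
    (ha : RegNZ p N L (f : G → ℂ) fun x => (a x : ℂ))
    (hb : RegNZ p N L (f : G → ℂ) fun x => (b x : ℂ))
    (x : L) (hx : ¬ p ∣ orderOf x) : a x = b x := by
  set J := N ⊔ Subgroup.zpowers (x : G)
  have hNJ : N ≤ J := le_sup_left
  have hJL : J ≤ L := sup_le hNL (Subgroup.zpowers_le.2 x.2)
  have hJi : ¬ p ∣ N.relIndex J := fun h => by
    rw [show J = Subgroup.zpowers (x : G) ⊔ N from sup_comm _ _, Subgroup.relIndex_sup_right] at h
    have h1 := h.trans (Subgroup.relIndex_dvd_card N (Subgroup.zpowers (x : G)))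
    rw [Nat.card_zpowers, Subgroup.orderOf_coe] at h1
    exact hx h1
  obtain ⟨-, hex⟩ := AlperinDade.restriction_bijection hM (good_sub hQN hQi hNJ (hJL.trans hLC) hJi)
  set θ' := irrEquiv (Subgroup.subgroupOfEquivOfLe hNJ) θ with hθ'
  set fJ : IrrCharacter J := ⟨fun y => (f : G → ℂ) y, AlperinDade.isIrr_restrict f.2 hres J hNJ⟩
  let tw : (L →* ℂˣ) → IrrCharacter J := fun c =>
    ⟨(fJ : J → ℂ) * fun y => (c (Subgroup.inclusion hJL y) : ℂ),
      Char.IsIrrCharacter.mul_hom fJ.2 (c.comp (Subgroup.inclusion hJL))⟩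
  have key : ∀ c : L →* ℂˣ, (∀ x : L, (x : G) ∈ N → c x = 1) →
      RegNZ p N L (f : G → ℂ) (fun x => (c x : ℂ)) →
      tw c ∈ principalBlock M J ∧ ∀ n : N.subgroupOf J, (tw c : J → ℂ) n = (θ' : _ → ℂ) n := by
    intro c hcN hc
    refine ⟨ExtensionPrincipal.mem_principal_of_sum_ne hM (hc J hNJ hJL), fun n => ?_⟩
    show (f : G → ℂ) (n : J) * (c (Subgroup.inclusion hJL n) : ℂ) = _
    rw [show c (Subgroup.inclusion hJL (n : J)) = 1 from hcN (Subgroup.inclusion hJL (n : J)) n.2,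
      Units.val_one, mul_one, hθ', irrEquiv_apply, ← hres]
    rfl
  obtain ⟨g, -, huniq⟩ := hex θ' (AlperinDade.mem_principal_transport _ hθ)
  have heq : tw a = tw b := (huniq _ (key a haN ha)).trans (huniq _ (key b hbN hb)).symm
  obtain ⟨n, hn⟩ : ∃ n : N, (f : G → ℂ) ((x : G) * n) ≠ 0 := by
    by_contra h
    push Not at h
    have h1 := AlperinDade.sum_coset_sq f.2 hres (x : G)
    rw [Finset.sum_eq_zero fun (n : N) _ => by rw [h n, zero_mul]] at h1
    exact Char.card_ne_zero h1.symm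
  have hy : (x : G) * n ∈ J :=
    mul_mem (Subgroup.mem_sup_right (Subgroup.mem_zpowers _)) (hNJ n.2)
  have h2 := congrFun (congrArg Subtype.val heq) ⟨_, hy⟩
  have hc : ∀ c : L →* ℂˣ, (∀ x : L, (x : G) ∈ N → c x = 1) →
      c (Subgroup.inclusion hJL ⟨_, hy⟩) = c x := fun c hcN => by
    rw [show Subgroup.inclusion hJL ⟨_, hy⟩ = x * ⟨n, hNL n.2⟩ from rfl, map_mul,
      hcN ⟨n, hNL n.2⟩ n.2, mul_one]
  have h3 : (f : G → ℂ) ((x : G) * n) * (a (Subgroup.inclusion hJL ⟨_, hy⟩) : ℂ)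
      = (f : G → ℂ) ((x : G) * n) * (b (Subgroup.inclusion hJL ⟨_, hy⟩) : ℂ) := h2
  rw [hc a haN, hc b hbN] at h3
  exact Units.ext (mul_left_cancel₀ hn h3)

/-- The extension of a `p`-rational invariant member of the principal block. -/
theorem exists_pRational_extension (hp2 : p ≠ 2) (hM : IsPModular p M) {N : Subgroup G} [N.Normal]
    {Q : Subgroup G} (hQN : Q ≤ N) (hQi : ¬ p ∣ Q.relIndex N) {a : ℕ}
    (hidx : (N ⊔ Subgroup.centralizer (Q : Set G)).index = p ^ a)
    (hLn : (N ⊔ Subgroup.centralizer (Q : Set G)).Normal)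
    {θ : IrrCharacter N} (hθ : θ ∈ principalBlock M N)
    (hinv : ∀ g : G, ∀ n n' : N, (n' : G) = g * n * g⁻¹ → (θ : N → ℂ) n' = (θ : N → ℂ) n)
    (hdeg : ¬ p ∣ charDegree (θ : N → ℂ)) {m : ℕ} (hm : ¬ p ∣ m)
    (hrat : ∀ n : N, (θ : N → ℂ) n ∈ IntermediateField.adjoin ℚ ({zeta m} : Set ℂ)) :
    ∃ χ : IrrCharacter G, χ ∈ principalBlock M G ∧
      (∃ k : ℕ, ¬ p ∣ k ∧ ∀ g : G, (χ : G → ℂ) g ∈ IntermediateField.adjoin ℚ ({zeta k} : Set ℂ)) ∧
      ∀ n : N, (χ : G → ℂ) n = (θ : N → ℂ) n := by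
  have hm0 : m ≠ 0 := fun h => hm (h ▸ dvd_zero p)
  set A := (Nat.card G).factorization p
  set e := Nat.card G / p ^ A with he_def
  have he : ¬ p ∣ e := Nat.not_dvd_ordCompl hp.out Nat.card_pos.ne'
  have hG : p ^ A * e = Nat.card G := Nat.ordProj_mul_ordCompl_eq_self _ _
  have hreg : ∀ g : G, ¬ p ∣ orderOf g → g ^ e = 1 := fun g hg =>
    orderOf_dvd_iff_pow_eq_one.1 (dvd_ordCompl_of_not_dvd hp.out hg)
  have hme : ¬ p ∣ m * e := fun h => (hp.out.dvd_mul.1 h).elim hm he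
  have hme0 : m * e ≠ 0 := fun h => hme (h ▸ dvd_zero p)
  have hfixm : ∀ σ : ℂ ≃+* ℂ, σ (zeta (m * e)) = zeta (m * e) → σ (zeta m) = zeta m ∧
      ∀ r : ℂˣ, r ^ e = 1 → σ r = r := by
    intro σ hσ
    have hω : IsPrimitiveRoot (zeta (m * e)) (m * e) := Complex.isPrimitiveRoot_exp _ hme0
    haveI : NeZero (m * e) := ⟨hme0⟩
    have key : ∀ z : ℂ, z ^ (m * e) = 1 → σ z = z := fun z hz => by
      obtain ⟨i, -, rfl⟩ := hω.eq_pow_of_pow_eq_one hz
      rw [map_pow, hσ]
    refine ⟨key _ ?_, fun r hr => key _ ?_⟩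
    · rw [pow_mul, zeta, (Complex.isPrimitiveRoot_exp m hm0).pow_eq_one, one_pow]
    · rw [← Units.val_pow_eq_pow_val, mul_comm, pow_mul, hr, one_pow, Units.val_one]
  obtain ⟨d, ρ, hρirr, hρ⟩ := θ.2
  haveI := hρirr
  have hd : ¬ p ∣ d := fun h => hdeg (by
    have h1 : (θ : N → ℂ) 1 = d := by rw [← hρ, Representation.char_one, Module.finrank_fin_fun]
    rw [irr_one_eq] at h1
    rwa [Nat.cast_inj.1 h1])
  have hρinv : ProjExt.Invariant ρ := fun g n => by
    rw [hρ]
    exact hinv g n _ (MulAut.conjNormal_apply g n)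
  -- the determinant of `θ`
  have hdet : ∀ n : N, DetExt.detHom ρ n ^ e = 1 := by
    intro n
    rw [← map_pow]
    set r := DetExt.detHom ρ (n ^ e)
    have hr : r ^ p ^ A = 1 := by
      rw [← map_pow, ← pow_mul, mul_comm, hG]
      rw [show n ^ Nat.card G = 1 from Subtype.ext (by
        rw [Subgroup.coe_pow, pow_card_eq_one', Subgroup.coe_one]), map_one]
    obtain ⟨k, hk1, hk2⟩ := Nat.chineseRemainder
      (((Nat.Prime.coprime_iff_not_dvd hp.out).2 hme).symm) 1 2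
    have hkp : ¬ p ∣ k := fun h => by
      have h1 := hk2.symm.trans (Nat.modEq_zero_iff_dvd.2 h)
      exact hp2 ((Nat.prime_dvd_prime_iff_eq hp.out Nat.prime_two).1 (Nat.modEq_zero_iff_dvd.1 h1))
    have hkco : k.Coprime (m * e * p ^ A) := Nat.Coprime.mul_right
      (by rw [Nat.Coprime, hk1.gcd_eq, Nat.gcd_one_left])
      (Nat.Coprime.pow_right A ((Nat.Prime.coprime_iff_not_dvd hp.out).2 hkp).symm)
    obtain ⟨σ, hσ⟩ := DegreeTools.FeitFour.exists_sigma
      (n := m * e * p ^ A) (mul_ne_zero hme0 (pow_ne_zero _ hp.out.ne_zero)) hkco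
    have hσm : σ (zeta m) = zeta m := by
      rw [hσ _ (by rw [mul_assoc, pow_mul, zeta, (Complex.isPrimitiveRoot_exp m hm0).pow_eq_one,
        one_pow])]
      conv_rhs => rw [← pow_one (zeta m)]
      refine pow_eq_pow_mod k (Complex.isPrimitiveRoot_exp m hm0).pow_eq_one |>.trans ?_
      rw [show k % m = 1 % m from (hk1.of_mul_right e), ← pow_eq_pow_mod 1
        (Complex.isPrimitiveRoot_exp m hm0).pow_eq_one]
      rfl
    have hθσ : (σ.toRingHom : ℂ →+* ℂ) ∘ (θ : N → ℂ) = (θ : N → ℂ) :=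
      funext fun y => apply_eq_of_mem_adjoin σ hσm (hrat y)
    have h1 := Galois.detChar_of_rep (Galois.mapRep σ.toRingHom ρ) (θ : N → ℂ)
      (Char.isCharacter_irr θ) (funext fun y => by
        rw [Galois.trace_mapRep, hρ]; exact congrFun hθσ y)
    have h2 := Galois.detChar_of_rep ρ (θ : N → ℂ) (Char.isCharacter_irr θ) hρ
    have h3 := congrFun (h1.symm.trans h2) (n ^ e)
    rw [Galois.det_mapRep] at h3
    have h4 : σ (r : ℂ) = (r : ℂ) := h3
    rw [hσ (r : ℂ) (by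
      rw [← Units.val_pow_eq_pow_val, mul_comm, pow_mul, hr, one_pow, Units.val_one]),
      ← Units.val_pow_eq_pow_val] at h4
    have h5 : r ^ k = r ^ 1 := by rw [pow_one]; exact Units.ext h4
    rw [pow_eq_pow_iff_modEq] at h5
    obtain ⟨j, -, hj⟩ := (Nat.dvd_prime_pow hp.out).1 (orderOf_dvd_of_pow_eq_one hr)
    rw [← orderOf_eq_one_iff, hj]
    rcases j with _ | j
    · rw [pow_zero]
    · exfalso
      rw [hj] at h5
      have h6 : (2 : ℕ) ≡ 1 [MOD p] := hk2.symm.trans (h5.of_dvd (dvd_pow_self p (Nat.succ_ne_zero j)))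
      have h7 : p ∣ 2 - 1 := (Nat.modEq_iff_dvd' one_le_two).1 h6.symm
      exact hp.out.one_lt.ne' (Nat.dvd_one.1 h7)
  -- the extension
  obtain ⟨τ, hτirr, hτ, hτdet⟩ := exists_extension_det hM hQN hQi ⟨a, hidx⟩ hθ ρ hρ hρinv hd he
    hreg hdet
  set ψ : IrrCharacter G := ⟨τ.character, hτirr⟩
  have hψ : ∀ n : N, (ψ : G → ℂ) n = (θ : N → ℂ) n := fun n => by
    rw [← hρ]; exact congrArg (LinearMap.trace ℂ _) (hτ n)
  set L := N ⊔ Subgroup.centralizer (Q : Set G) with hL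
  haveI := hLn
  have hNL : N ≤ L := le_sup_left
  set N' := N.subgroupOf L
  set θL := irrEquiv (Subgroup.subgroupOfEquivOfLe hNL) θ with hθL
  set ψL : IrrCharacter L := ⟨fun y => (ψ : G → ℂ) y, AlperinDade.isIrr_restrict ψ.2 hψ L hNL⟩
  have hψL : ∀ n : N', (ψL : L → ℂ) n = (θL : N' → ℂ) n := fun n => by
    rw [hθL, irrEquiv_apply, ← hψ]; rfl
  obtain ⟨χL, -, hχres, hχJ⟩ := ExtensionPrincipal.exists_extension_all hM (N := N')
    (P := Q.subgroupOf L) (Subgroup.comap_mono hQN)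
    (by rw [Subgroup.relIndex_subgroupOf hNL]; exact hQi) (fun g => by
      obtain ⟨n, hn, c, hc, hnc⟩ := Subgroup.mem_sup_of_normal_left.1 g.2
      refine ⟨⟨c, Subgroup.mem_sup_right hc⟩, ?_, Subgroup.mem_centralizer_iff.2 fun u hu =>
        Subtype.ext (Subgroup.mem_centralizer_iff.1 hc u hu)⟩
      show (g : G)⁻¹ * c ∈ N
      rw [← hnc]
      simpa [mul_assoc] using (inferInstance : N.Normal).conj_mem _ (N.inv_mem hn) c⁻¹)
    (AlperinDade.mem_principal_transport _ hθ) (ψ := ψL) hψL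
  obtain ⟨η, hη, hχη⟩ := AlperinDade.exists_mul_of_over ψL.2 hψL (χ := χL)
    (AlperinDade.over_of_extension hχres)
  have hη1 : (η : L → ℂ) 1 = 1 := by
    have h1 := congrFun hχη 1
    have h2 := hχres 1
    have h3 := hψL 1
    rw [Subgroup.coe_one] at h2 h3
    rw [Pi.mul_apply, h2, h3] at h1
    exact (mul_eq_left₀ (irr_one_ne_zero θL)).1 h1.symm
  obtain ⟨φ, hφ⟩ := Char.exists_hom_of_apply_one_eq_one (Char.isCharacter_irr η) hη1
  have hφN : ∀ x : L, (x : G) ∈ N → φ x = 1 := fun x hx => Units.ext (by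
    have := hη x hx
    rw [hη1, hφ] at this
    exact this)
  obtain ⟨c, hc1, hc0⟩ := exists_exponent (p := p) e A he
  let μ : L →* ℂˣ := (powMonoidHom c).comp φ
  have hμe : ∀ x : L, μ x ^ e = 1 := fun x => by
    obtain ⟨b, hb⟩ := Nat.modEq_zero_iff_dvd.1 hc0
    show (φ x ^ c) ^ e = 1
    rw [hb, ← pow_mul, show p ^ A * b * e = Nat.card G * b by rw [← hG]; ring, ← map_pow, pow_mul,
      show x ^ Nat.card G = 1 from Subtype.ext (by
        rw [Subgroup.coe_pow, pow_card_eq_one', Subgroup.coe_one]), one_pow, map_one]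
  have hμreg : ∀ x : L, ¬ p ∣ orderOf x → μ x = φ x := fun x hx => by
    show φ x ^ c = φ x
    refine pow_of_modEq_one ?_ hc1
    rw [← map_pow, show x ^ e = 1 from Subtype.ext (by
      rw [Subgroup.coe_pow, hreg _ (by rwa [Subgroup.orderOf_coe]), Subgroup.coe_one]), map_one]
  have hμN : ∀ x : L, (x : G) ∈ N → μ x = 1 := fun x hx => by
    show φ x ^ c = 1
    rw [hφN x hx, one_pow]
  -- non-vanishing
  have hμnz : RegNZ p N L (ψ : G → ℂ) fun x => (μ x : ℂ) := by
    intro J hNJ hJL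
    obtain ⟨ξ, hξ, hξv⟩ := hχJ (J.subgroupOf L) (Subgroup.comap_mono hNJ)
    have h1 := ExtensionPrincipal.sum_regular_ne_zero hM hξ
    intro h0
    refine h1 ?_
    rw [Finset.sum_filter] at h0 ⊢
    refine Eq.trans ?_ h0
    refine Fintype.sum_equiv (Subgroup.subgroupOfEquivOfLe hJL).toEquiv _ _ fun y => ?_
    have ho : orderOf (Subgroup.subgroupOfEquivOfLe hJL y) = orderOf y := MulEquiv.orderOf_eq _ y
    simp only [MulEquiv.toEquiv_eq_coe, EquivLike.coe_coe]
    by_cases hy : IsPRegular p y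
    · rw [if_pos hy, if_pos (show IsPRegular p (Subgroup.subgroupOfEquivOfLe hJL y) by
        rw [IsPRegular, ho]; exact hy), hξv, hχη, hφ]
      show _ * _ = (ψ : G → ℂ) ((y : L) : G) * (μ (y : L) : ℂ)
      rw [hμreg _ (by rw [Subgroup.orderOf_coe]; exact hy)]
    · rw [if_neg hy, if_neg (show ¬ IsPRegular p (Subgroup.subgroupOfEquivOfLe hJL y) by
        rw [IsPRegular, ho]; exact hy)]
  -- invariance
  have hμinv : ∀ (g : G) (x : L), μ ⟨g * x * g⁻¹, hLn.conj_mem x x.2 g⟩ = μ x := by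
    intro g
    let μg : L →* ℂˣ := μ.comp (MulAut.conjNormal g : MulAut L).toMonoidHom
    have hμgN : ∀ x : L, (x : G) ∈ N → μg x = 1 := fun x hx => hμN _ (by
      show ((MulAut.conjNormal g x : L) : G) ∈ N
      rw [show ((MulAut.conjNormal g x : L) : G) = g * x * g⁻¹ from MulAut.conjNormal_apply g x]
      exact (inferInstance : N.Normal).conj_mem _ hx g)
    have hμgnz : RegNZ p N L (ψ : G → ℂ) fun x => (μg x : ℂ) := by
      intro J hNJ hJL
      set J' := J.map (MulAut.conj g).toMonoidHom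
      have hNJ' : N ≤ J' := fun n hn => ⟨g⁻¹ * n * g, hNJ (by
        simpa using (inferInstance : N.Normal).conj_mem n hn g⁻¹),
        by simp [mul_assoc]⟩
      have hJ'L : J' ≤ L := by
        rintro _ ⟨y, hy, rfl⟩
        exact hLn.conj_mem y (hJL hy) g
      intro h0
      refine hμnz J' hNJ' hJ'L ?_
      rw [Finset.sum_filter] at h0 ⊢
      refine Eq.trans ?_ h0
      refine (Fintype.sum_equiv (J.equivMapOfInjective (MulAut.conj g).toMonoidHom
        (MulAut.conj g).injective).toEquiv _ _ fun y => ?_).symm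
      have ho : orderOf (J.equivMapOfInjective (MulAut.conj g).toMonoidHom
        (MulAut.conj g).injective y) = orderOf y := MulEquiv.orderOf_eq _ y
      have hv : (ψ : G → ℂ) (y : G) * (μg ⟨y, hJL y.2⟩ : ℂ)
          = (ψ : G → ℂ) (g * y * g⁻¹) * (μ ⟨g * y * g⁻¹, hLn.conj_mem _ (hJL y.2) g⟩ : ℂ) := by
        rw [Char.IsIrrCharacter.isClassFunction ψ.2]
        congr 2
      refine if_congr (by rw [IsPRegular, IsPRegular]; exact not_congr (by rw [← ho]; rfl)) ?_ rfl
      exact hv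
    intro x
    have h1 := eq_on_regular hM hQN hQi hθ hψ hNL le_rfl μg μ hμgN hμN hμgnz hμnz (x ^ c) (by
      intro hd
      have h2 : orderOf (x ^ c) ∣ e := orderOf_dvd_of_pow_eq_one (Subtype.ext (by
        obtain ⟨b, hb⟩ := Nat.modEq_zero_iff_dvd.1 hc0
        rw [Subgroup.coe_pow, Subgroup.coe_pow, hb, ← pow_mul,
          show p ^ A * b * e = Nat.card G * b by rw [← hG]; ring, pow_mul, pow_card_eq_one', one_pow,
          Subgroup.coe_one]))
      exact he (hd.trans h2))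
    rw [map_pow, map_pow, pow_of_modEq_one (hμe x) hc1,
      pow_of_modEq_one (show μg x ^ e = 1 from hμe _) hc1] at h1
    exact h1
  obtain ⟨F, hF, hFe⟩ := exists_hom_extension (N := L) hidx μ hμinv he hμe
  set χ : IrrCharacter G :=
    ⟨(ψ : G → ℂ) * fun g => (F g : ℂ), Char.IsIrrCharacter.mul_hom ψ.2 F⟩ with hχdef
  have hχv : ∀ g, (χ : G → ℂ) g = (ψ : G → ℂ) g * (F g : ℂ) := fun g => rfl
  have hχN : ∀ n : N, (χ : G → ℂ) n = (θ : N → ℂ) n := fun n => by
    rw [hχv, show F n = 1 from (hF ⟨n, hNL n.2⟩).trans (hμN _ n.2), Units.val_one, mul_one, hψ]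
  have hone : RegNZ p N L (χ : G → ℂ) fun x => (((1 : L →* ℂˣ) x : ℂˣ) : ℂ) := by
    intro J hNJ hJL
    convert hμnz J hNJ hJL using 2
    rename_i y _
    simp only [MonoidHom.one_apply, Units.val_one, mul_one]
    rw [hχv, ← hF ⟨y, hJL y.2⟩]
  refine ⟨χ, ExtensionPrincipal.mem_principal_of_sum_ne hM ?_, ⟨m * e, hme, fun g => ?_⟩, hχN⟩
  · have h1 := hone L hNL le_rfl
    simp only [MonoidHom.one_apply, Units.val_one, mul_one] at h1
    intro h0
    refine h1 (Eq.trans ?_ h0)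
    refine Finset.sum_bij (fun y _ => (y : G)) (fun y hy => Finset.mem_filter.2 ⟨Finset.mem_univ _,
      by rw [IsPRegular, Subgroup.orderOf_coe]; exact (Finset.mem_filter.1 hy).2⟩)
      (fun _ _ _ _ h => Subtype.ext h) (fun g hg => ?_) fun _ _ => rfl
    have hg' := (Finset.mem_filter.1 hg).2
    exact ⟨⟨g, mem_of_not_dvd hidx hp.out hg'⟩, Finset.mem_filter.2 ⟨Finset.mem_univ _, by
      rw [IsPRegular, ← Subgroup.orderOf_coe]; exact hg'⟩, rfl⟩
  -- rationality
  have hN0 : m * Nat.card G ≠ 0 := mul_ne_zero hm0 Nat.card_pos.ne'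
  refine mem_adjoin_of_fixed hme0 hN0 ⟨p ^ A, by rw [← hG]; ring⟩ ?_ fun σ hσ => ?_
  · obtain ⟨dd, ρχ, -, hρχ⟩ := χ.2
    obtain ⟨μe, hμe', hpow⟩ := Char.exists_eigenvalues ρχ g
    have hz : ∀ i, μe i ∈ IntermediateField.adjoin ℚ ({zeta (m * Nat.card G)} : Set ℂ) := fun i => by
      haveI : NeZero (m * Nat.card G) := ⟨hN0⟩
      obtain ⟨j, -, hj⟩ := (Complex.isPrimitiveRoot_exp _ hN0).eq_pow_of_pow_eq_one
        (ξ := μe i) (by
          obtain ⟨b, hb⟩ := (orderOf_dvd_natCard g).mul_left m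
          rw [hb, pow_mul, hμe' i, one_pow])
      rw [← hj]
      exact pow_mem (IntermediateField.mem_adjoin_simple_self ℚ _) j
    have h1 := hpow 1
    rw [pow_one] at h1
    rw [← hρχ, h1]
    exact sum_mem fun i _ => pow_mem (hz i) 1
  obtain ⟨hσm, hσr⟩ := hfixm σ hσ
  set χσ : IrrCharacter G := ⟨σ.toRingHom ∘ (χ : G → ℂ), Galois.isIrrCharacter_map σ.toRingHom χ.2⟩
  have hσθ : ∀ n : N, (χσ : G → ℂ) n = (θ : N → ℂ) n := fun n => by
    show σ ((χ : G → ℂ) n) = _
    rw [hχN]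
    exact apply_eq_of_mem_adjoin σ hσm (hrat n)
  obtain ⟨ν', hν', hχν⟩ := AlperinDade.exists_mul_of_over χ.2 hχN (χ := χσ)
    (AlperinDade.over_of_extension hσθ)
  have hν1 : (ν' : G → ℂ) 1 = 1 := by
    have h1 := congrFun hχν 1
    have h2 := hσθ 1
    have h3 := hχN 1
    rw [Subgroup.coe_one] at h2 h3
    rw [Pi.mul_apply, h2, h3] at h1
    exact (mul_eq_left₀ (irr_one_ne_zero θ)).1 h1.symm
  obtain ⟨ν, hν⟩ := Char.exists_hom_of_apply_one_eq_one (Char.isCharacter_irr ν') hν1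
  have hσχ : ∀ x, σ ((χ : G → ℂ) x) = (χ : G → ℂ) x * (ν x : ℂ) := fun x => by
    have := congrFun hχν x
    rw [hν] at this
    exact this
  -- the `p`-regular elements
  have hνreg : ∀ x : G, ¬ p ∣ orderOf x → ν x = 1 := fun x hx => by
    have hxL := mem_of_not_dvd hidx hp.out hx
    have hνN : ∀ y : L, (y : G) ∈ N → (ν.comp L.subtype) y = 1 := fun y hy => Units.ext (by
      have := hν' _ hy
      rw [hν1, hν] at this
      exact this)
    have hnz : RegNZ p N L (χ : G → ℂ) fun y => ((ν.comp L.subtype) y : ℂ) := by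
      intro J hNJ hJL h0
      refine hone J hNJ hJL (σ.injective ?_)
      rw [map_zero, map_sum, ← h0]
      refine Finset.sum_congr rfl fun y _ => ?_
      simp only [MonoidHom.one_apply, Units.val_one, mul_one]
      rw [hσχ]
      rfl
    exact eq_on_regular hM hQN hQi hθ hχN hNL le_rfl (ν.comp L.subtype) 1 hνN (fun _ _ => rfl) hnz hone
      ⟨x, hxL⟩ (by rw [← Subgroup.orderOf_coe]; exact hx)
  -- the determinant
  have hνd : ∀ x : G, ν x ^ d = 1 := by
    intro x
    let πχ : Representation ℂ G (Fin d → ℂ) := DetExt.twistHom τ F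
    have hπ : πχ.character = (χ : G → ℂ) := funext fun y => by
      show LinearMap.trace ℂ _ ((F y : ℂ) • τ y) = _
      rw [map_smul, smul_eq_mul, mul_comm]
      rfl
    have hfin : Module.finrank ℂ (Fin d → ℂ) = d := Module.finrank_fin_fun ℂ
    have hπdet : ∀ y, LinearMap.det (πχ y) = ((F y ^ d * DetExt.detHom τ y : ℂˣ) : ℂ) := fun y => by
      show LinearMap.det ((F y : ℂ) • τ y) = _
      rw [LinearMap.det_smul, hfin, Units.val_mul, Units.val_pow_eq_pow_val]
      rfl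
    have e1 := Galois.detChar_of_rep (Galois.mapRep σ.toRingHom πχ) (χσ : G → ℂ)
      (Char.isCharacter_irr χσ) (funext fun y => by rw [Galois.trace_mapRep, hπ]; rfl)
    have e2 := Galois.detChar_of_rep (DetExt.twistHom πχ ν) (χσ : G → ℂ)
      (Char.isCharacter_irr χσ) (funext fun y => by
        show LinearMap.trace ℂ _ ((ν y : ℂ) • πχ y) = _
        rw [map_smul, smul_eq_mul, mul_comm]
        show πχ.character y * _ = _
        rw [hπ]
        exact (hσχ y).symm)
    have e3 := congrFun (e1.symm.trans e2) x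
    rw [Galois.det_mapRep, hπdet] at e3
    have hu : (F x ^ d * DetExt.detHom τ x) ^ e = 1 := by
      rw [mul_pow, hτdet, mul_one, ← pow_mul, mul_comm, pow_mul, hFe, one_pow]
    have e4 : LinearMap.det ((DetExt.twistHom πχ ν) x)
        = (ν x : ℂ) ^ d * ((F x ^ d * DetExt.detHom τ x : ℂˣ) : ℂ) := by
      show LinearMap.det ((ν x : ℂ) • πχ x) = _
      rw [LinearMap.det_smul, hfin, hπdet]
    have e5 : σ ((F x ^ d * DetExt.detHom τ x : ℂˣ) : ℂ)
        = (ν x : ℂ) ^ d * ((F x ^ d * DetExt.detHom τ x : ℂˣ) : ℂ) := e3.trans e4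
    rw [hσr _ hu] at e5
    refine Units.ext ?_
    rw [Units.val_pow_eq_pow_val, Units.val_one]
    exact (mul_eq_right₀ (F x ^ d * DetExt.detHom τ x).ne_zero).1 e5.symm
  have hνone : ν g = 1 := by
    have h1 : ν g ^ d = 1 := hνd g
    have h2 : ν g ^ p ^ A = 1 := by
      rw [← map_pow]
      refine hνreg _ fun h => he (h.trans (orderOf_dvd_of_pow_eq_one ?_))
      rw [← pow_mul, hG, pow_card_eq_one']
    exact orderOf_eq_one_iff.1 (Nat.eq_one_of_dvd_coprimes
      (Nat.Coprime.pow_left A ((Nat.Prime.coprime_iff_not_dvd hp.out).2 hd))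
      (orderOf_dvd_of_pow_eq_one h2) (orderOf_dvd_of_pow_eq_one h1))
  rw [hσχ g, hνone, Units.val_one, mul_one]

end CfsgLib.Blocks.PRatExtend
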